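import Mathlib
import Cfsg.Agent.LX.Defs

/-!
Two commuting conjugates `z`, `a` when `z` is weakly closed in `QQ z`.
Notation of the plan: `A = C_Q(a)`, `B = C_{Q_a}(z)`, `D = Q ⊓ Q_a`, `cm a e = [e, a]`.
-/

set_option autoImplicit false

namespace Cfsg.Agent.LX

open Cfsg.Agent.Spor Cfsg.Agent.Spor.TT Subgroup

variable {G : Type*} [Group G] {z a b d e f x y : G}

/-- The commutator `e a e⁻¹ a`. -/
def cm (a e : G) : G := cj e a * a

theorem cm_eq (a e : G) (ha : a * a = 1) : cm a e = e * cj a e⁻¹ := by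
  rw [cm, cj_def, cj_def, inv_eq_of_mul_eq_one_right ha]; group

theorem cm_mul (a e f : G) (ha : a * a = 1) : cm a (e * f) = cj e (cm a f) * cm a e := by
  have k : ∀ w, a * (a * w) = w := fun w => by rw [← mul_assoc, ha, one_mul]
  simp only [cm, cj_def, mul_inv_rev, mul_assoc, inv_mul_cancel_left, k]

theorem cm_eq_one_iff (ha : a * a = 1) : cm a e = 1 ↔ Commute a e := by
  rw [cm, mul_eq_one_iff_eq_inv, inv_eq_of_mul_eq_one_right ha, cj_eq_self_iff]
  exact ⟨Commute.symm, Commute.symm⟩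

theorem cj_cm (hb : Commute a b) (e : G) : cj b (cm a e) = cm a (cj b e) := by
  rw [cm, cm, cj_mul, cj_of_commute hb.symm]
  congr 1
  conv_rhs => rw [← cj_of_commute hb.symm]
  simp only [cj_def]; group

/-- `z` and `a` are different commuting conjugates, and `z` is weakly closed in `QQ z`. -/
structure Pr (z a : G) : Prop where
  big : Big z
  wc : WC z
  nb : a ∈ Nb z

namespace Pr

theorem symm (h : Pr z a) : Pr a z :=
  ⟨h.big.of_isConj h.nb.1, h.wc.of_isConj h.nb.1, Nb_symm h.nb⟩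

theorem comm (h : Pr z a) : Commute z a := h.nb.2.2

theorem sq (h : Pr z a) : a * a = 1 := h.symm.big.sq

theorem not_mem (h : Pr z a) : a ∉ QQ z := fun k => h.nb.2.1 (h.wc a h.nb.1 k)

theorem cm_mem (h : Pr z a) (he : e ∈ QQ z) : cm a e ∈ QQ z := by
  rw [cm_eq a e h.sq]
  exact mul_mem he (h.big.cj_mem h.comm (inv_mem he))

/-- Elements of `D` are involutions. -/
theorem D_sq (h : Pr z a) (h1 : d ∈ QQ z) (h2 : d ∈ QQ a) : d * d = 1 := by
  refine (h.big.es.sq d h1).resolve_right fun k => ?_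
  rcases h.symm.big.es.sq d h2 with l | l
  · exact h.big.ne_one (k.symm.trans l)
  · exact h.nb.2.1 (l.symm.trans k)

theorem D_ne (h : Pr z a) (h2 : d ∈ QQ a) : d ≠ z := fun k => h.symm.not_mem (k ▸ h2)

/-- `[A, B] ≤ D`. -/
theorem comm_mem (h : Pr z a) (hx : x ∈ QQ z) (hxa : Commute a x) (hy : y ∈ QQ a)
    (hyz : Commute z y) : x * cj y x⁻¹ ∈ QQ z ∧ x * cj y x⁻¹ ∈ QQ a :=
  ⟨mul_mem hx (h.big.cj_mem hyz (inv_mem hx)), by
    have : x * cj y x⁻¹ = cj x y * y⁻¹ := by simp only [cj_def]; group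
    exact this ▸ mul_mem (h.symm.big.cj_mem hxa hy) (inv_mem hy)⟩

/-- `D` centralises `A`. -/
theorem D_comm (h : Pr z a) (h1 : d ∈ QQ z) (h2 : d ∈ QQ a) (hx : x ∈ QQ z) (hxa : Commute a x) :
    Commute d x := by
  by_contra hn
  have k := (h.comm_mem hx hxa h2 (h.big.comm h1)).2
  have k2 : cj d x⁻¹ = z * x⁻¹ := h.big.es.aes.conj_of_ne h1 (inv_mem hx) fun c =>
    hn (Commute.inv_right_iff.1 c)
  rw [k2, ← mul_assoc, ← (h.big.comm hx).eq, mul_inv_cancel_right] at k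
  exact h.symm.not_mem k

/-- Weak closure in `QQ a`. -/
theorem eq_one_of_conj (h : Pr z a) (h2 : d ∈ QQ a) (hc : IsConj z (d * a)) : d = 1 :=
  mul_right_cancel (b := a) ((h.symm.wc _ (h.nb.1.symm.trans hc)
    (mul_mem h2 h.symm.big.z_mem)).trans (one_mul a).symm)

theorem isConj_cm (h : Pr z a) (e : G) : IsConj z (cm a e * a) := by
  rw [cm, mul_assoc, h.sq, mul_one]
  exact h.nb.1.trans (isConj_cj e a)

/-- No non-trivial commutator `[e, a]` lies in `QQ a`. -/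
theorem cm_eq_one (h : Pr z a) (hm : cm a e ∈ QQ a) : cm a e = 1 :=
  h.eq_one_of_conj hm (h.isConj_cm e)

theorem cm_of_eps (h : Pr z a) (_hf : f ∈ QQ z) (hz : cj a f = z * f) : cm a f = z := by
  rw [cm_eq a f h.sq, cj_inv, hz, mul_inv_rev, h.big.es.z_inv, mul_inv_cancel_left]

/-- If `a` is conjugate to `a z` under `QQ z`, then `z [e, a]` is a commutator too. -/
theorem z_mul_cm (h : Pr z a) (hf : f ∈ QQ z) (hz : cj a f = z * f) (he : e ∈ QQ z) :
    z * cm a e = cm a (e * f) := by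
  rw [cm_mul a e f h.sq, h.cm_of_eps hf hz, cj_of_commute (h.big.comm he).symm]

theorem z_mul_cm_eq_one (h : Pr z a) (hf : f ∈ QQ z) (hz : cj a f = z * f) (he : e ∈ QQ z)
    (hm : z * cm a e ∈ QQ a) : z * cm a e = 1 := by
  rw [h.z_mul_cm hf hz he] at hm ⊢
  exact h.cm_eq_one hm

theorem bf_cm (h : Pr z a) (he : e ∈ QQ z) (hf : f ∈ QQ z) :
    bf f (cm a e) = bf f e + bf (cj a f) e := by
  have ia := inv_eq_of_mul_eq_one_right h.sq
  rw [cm_eq a e h.sq, h.big.es.aes.bf_mul_right he (h.big.cj_mem h.comm (inv_mem he)) hf,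
    cj_def a f, bf_conj, cj_inv, bf_inv_right, cj_def, ia]

theorem bf_cm_symm (h : Pr z a) (he : e ∈ QQ z) (hf : f ∈ QQ z) :
    bf f (cm a e) = bf e (cm a f) := by
  have ia := inv_eq_of_mul_eq_one_right h.sq
  rw [h.bf_cm he hf, h.bf_cm hf he, bf_comm f e, cj_def a f, bf_conj, bf_comm f, cj_def, ia]

/-- `f` is fixed by `a` modulo `z` iff it commutes with all commutators `[e, a]`. -/
theorem fix_iff (h : Pr z a) (hf : f ∈ QQ z) :
    (cj a f = f ∨ cj a f = z * f) ↔ ∀ e ∈ QQ z, Commute f (cm a e) := by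
  have k := h.big.cj_mem h.comm hf
  constructor
  · intro c e he
    refine bf_eq_zero.1 ?_
    rw [h.bf_cm he hf, h.big.es.aes.bf_eqv_left he c]
    exact CharTwo.add_self_eq_zero _
  · intro c
    have := h.big.es.center (cj a f * f⁻¹) (mul_mem k (inv_mem hf)) fun e he => by
      rw [← bf_eq_zero, h.big.es.aes.bf_mul_left k (inv_mem hf) he, bf_inv_left, add_comm,
        ← h.bf_cm he hf]
      exact bf_eq_zero.2 (c e he)
    exact this.imp mul_inv_eq_one.1 mul_inv_eq_iff_eq_mul.1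

/-- The subgroup `U = [Q, a] ⟨z⟩`. -/
def U (h : Pr z a) : Subgroup G where
  carrier := {x | ∃ e ∈ QQ z, x = cm a e ∨ x = z * cm a e}
  one_mem' := ⟨1, one_mem _, Or.inl ((cm_eq_one_iff h.sq).2 (Commute.one_right a)).symm⟩
  mul_mem' := by
    rintro x y ⟨e, he, h1⟩ ⟨f, hf, h2⟩
    have zz := h.big.sq
    refine ⟨f * e, mul_mem hf he, ?_⟩
    have k : Eqv z (cm a e * cm a f) (cm a (f * e)) := by
      rw [cm_mul a f e h.sq]
      exact Eqv.mul_right (Eqv.symm zz (h.big.es.aes.conj_eq hf (h.cm_mem he))) _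
    have k1 : Eqv z (x * y) (cm a e * y) := Eqv.mul_right h1 _
    have k2 : Eqv z (cm a e * y) (cm a e * cm a f) := by
      rcases h2 with rfl | rfl
      · exact Or.inl rfl
      · exact Or.inr (by rw [← mul_assoc, ← (h.big.comm (h.cm_mem he)).eq, mul_assoc])
    exact (k1.trans zz k2).trans zz k
  inv_mem' := by
    rintro x ⟨e, he, h1⟩
    have zz := h.big.sq
    have hx : x ∈ QQ z := by
      rcases h1 with rfl | rfl
      exacts [h.cm_mem he, mul_mem h.big.z_mem (h.cm_mem he)]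
    have k : Eqv z x⁻¹ x := by
      rcases h.big.es.sq x hx with l | l
      · exact Or.inl (inv_eq_of_mul_eq_one_right l)
      · exact Or.inr (by
          rw [inv_eq_iff_mul_eq_one, ← mul_assoc, ← (h.big.comm hx).eq, mul_assoc, l, zz])
    exact ⟨e, he, k.trans zz h1⟩

theorem mem_U (h : Pr z a) : x ∈ h.U ↔ ∃ e ∈ QQ z, x = cm a e ∨ x = z * cm a e := Iff.rfl

theorem U_le (h : Pr z a) : h.U ≤ QQ z := by
  rintro x ⟨e, he, rfl | rfl⟩
  exacts [h.cm_mem he, mul_mem h.big.z_mem (h.cm_mem he)]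

theorem z_mem_U (h : Pr z a) : z ∈ h.U :=
  ⟨1, one_mem _, Or.inr (by rw [(cm_eq_one_iff h.sq).2 (Commute.one_right a), mul_one])⟩

theorem cm_mem_U (h : Pr z a) (he : e ∈ QQ z) : cm a e ∈ h.U := ⟨e, he, Or.inl rfl⟩

/-- Duality: `[V, a] = C_V(a)^⊥`. -/
theorem mem_U_of_comm [Finite G] (h : Pr z a) (hx : x ∈ QQ z)
    (hc : ∀ f ∈ QQ z, (cj a f = f ∨ cj a f = z * f) → Commute f x) : x ∈ h.U :=
  h.big.es.mem_of_comm_centralizer h.U_le h.z_mem_U hx fun f hf k =>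
    hc f hf ((h.fix_iff hf).2 fun _ he => k _ (h.cm_mem_U he))

/-- Elements of `U` are fixed by `a` modulo `z`. -/
theorem U_fix (h : Pr z a) (hx : x ∈ h.U) : cj a x = x ∨ cj a x = z * x := by
  have hq := h.U_le hx
  have k : cj a x = x⁻¹ := by
    have ia := inv_eq_of_mul_eq_one_right h.sq
    have k1 : ∀ e, cj a (cm a e) = (cm a e)⁻¹ := fun e => by
      simp only [cm, cj_def, mul_inv_rev, inv_inv, ia, mul_assoc, h.sq, mul_one]
    obtain ⟨e, he, rfl | rfl⟩ := hx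
    · exact k1 e
    · rw [cj_mul, k1, cj_of_commute h.comm.symm, mul_inv_rev, h.big.es.z_inv,
        (h.big.comm (inv_mem (h.cm_mem he))).eq]
  rw [k]
  rcases h.big.es.sq x hq with l | l
  · exact Or.inl (inv_eq_of_mul_eq_one_right l)
  · exact Or.inr (by
      rw [inv_eq_iff_mul_eq_one, ← mul_assoc, ← (h.big.comm hq).eq, mul_assoc, l, h.big.sq])

/-- `a` inverts the elements of `U`; so the involutions of `U` lie in `A`. -/
theorem U_comm (h : Pr z a) (hx : x ∈ h.U) (hxx : x * x = 1) : Commute a x := by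
  have ia := inv_eq_of_mul_eq_one_right h.sq
  have k1 : ∀ e, cj a (cm a e) = (cm a e)⁻¹ := fun e => by
    simp only [cm, cj_def, mul_inv_rev, inv_inv, ia, mul_assoc, h.sq, mul_one]
  rw [← cj_eq_self_iff]
  refine Eq.trans ?_ (inv_eq_of_mul_eq_one_right hxx)
  obtain ⟨e, he, rfl | rfl⟩ := hx
  · exact k1 e
  · rw [cj_mul, k1, cj_of_commute h.comm.symm, mul_inv_rev, h.big.es.z_inv,
      (h.big.comm (inv_mem (h.cm_mem he))).eq]

/-- Case `ε = 1`: `D ⊓ U = 1`. -/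
theorem D_U_of_eps (h : Pr z a) (hf : f ∈ QQ z) (hz : cj a f = z * f) (h1 : d ∈ h.U)
    (h2 : d ∈ QQ a) : d = 1 := by
  obtain ⟨e, he, rfl | rfl⟩ := h1
  exacts [h.cm_eq_one h2, h.z_mul_cm_eq_one hf hz he h2]

/-- Case `ε = 1`: a non-trivial element of `D` does not commute with `f`. -/
theorem D_not_comm_of_eps [Finite G] (h : Pr z a) (hf : f ∈ QQ z) (hz : cj a f = z * f)
    (h1 : d ∈ QQ z) (h2 : d ∈ QQ a) (hc : Commute f d) : d = 1 := by
  refine h.D_U_of_eps hf hz (h.mem_U_of_comm h1 fun g hg k => ?_) h2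
  rcases k with k | k
  · exact (h.D_comm h1 h2 hg (cj_eq_self_iff.1 k)).symm
  · have : Commute a (f * g) := cj_eq_self_iff.1 (by
      rw [cj_mul, hz, k, mul_assoc, ← mul_assoc f, ← (h.big.comm hf).eq, mul_assoc,
        h.big.es.z_mul_z_mul])
    have k2 := (h.D_comm h1 h2 (mul_mem hf hg) this).symm
    simpa using hc.inv_left.mul_left k2

/-- Case `ε = 1`: `D` has order at most two. -/
theorem D_eq_of_eps [Finite G] (h : Pr z a) (hf : f ∈ QQ z) (hz : cj a f = z * f)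
    (h1 : x ∈ QQ z) (h2 : x ∈ QQ a) (h3 : y ∈ QQ z) (h4 : y ∈ QQ a) (hx : x ≠ 1) (hy : y ≠ 1) :
    x = y := by
  have k := h.D_not_comm_of_eps hf hz (mul_mem h1 h3) (mul_mem h2 h4)
    (Commute.symm (h.big.es.aes.comm_mul_of_ne h1 h3 hf
      (fun c => hx (h.D_not_comm_of_eps hf hz h1 h2 (Commute.symm c)))
      (fun c => hy (h.D_not_comm_of_eps hf hz h3 h4 (Commute.symm c)))))
  rw [mul_eq_one_iff_eq_inv, inv_eq_of_mul_eq_one_right (h.D_sq h3 h4)] at k
  exact k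

section Zero

variable (h0 : ∀ f ∈ QQ z, cj a f ≠ z * f)
include h0

/-- Case `ε = 0`: `U ≤ A`. -/
theorem U_comm_of_zero (h : Pr z a) (hx : x ∈ h.U) : Commute a x :=
  cj_eq_self_iff.1 ((h.U_fix hx).resolve_right (h0 x (h.U_le hx)))

/-- Case `ε = 0`: the non-trivial elements of `D` have the form `z [e, a]`. -/
theorem D_of_zero [Finite G] (h : Pr z a) (h1 : d ∈ QQ z) (h2 : d ∈ QQ a) (hd : d ≠ 1) :
    ∃ e ∈ QQ z, d = z * cm a e := by
  obtain ⟨e, he, k⟩ := h.mem_U_of_comm h1 fun g hg k =>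
    (h.D_comm h1 h2 hg (cj_eq_self_iff.1 (k.resolve_right (h0 g hg)))).symm
  exact ⟨e, he, k.resolve_left fun l => hd (l.trans (h.cm_eq_one (l ▸ h2)))⟩

omit h0 in
/-- Different elements `z [e, a]`, `z [f, a]` of `D`: `e` does not commute with `[f, a]`. -/
theorem D_pair (h : Pr z a) (he : e ∈ QQ z) (hf : f ∈ QQ z) (h1 : z * cm a e ∈ QQ a)
    (h2 : z * cm a f ∈ QQ a) (hc : Commute e (cm a f)) : cm a e = cm a f := by
  have k : cm a (e * f) = (z * cm a f) * (z * cm a e) := by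
    rw [cm_mul a e f h.sq, cj_of_commute hc, mul_assoc, ← mul_assoc (cm a f),
      ← (h.big.comm (h.cm_mem hf)).eq, mul_assoc, h.big.es.z_mul_z_mul]
  have k2 := h.cm_eq_one (k ▸ mul_mem h2 h1)
  rw [k, mul_eq_one_iff_eq_inv, inv_eq_of_mul_eq_one_right
    (h.D_sq (mul_mem h.big.z_mem (h.cm_mem he)) h1)] at k2
  exact (mul_left_cancel k2).symm

/-- Case `ε = 0`: `D` has order at most four. -/
theorem D_four [Finite G] (h : Pr z a) (h1 : x ∈ QQ z) (h2 : x ∈ QQ a) (h3 : y ∈ QQ z)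
    (h4 : y ∈ QQ a) (hx : x ≠ 1) (hy : y ≠ 1) (hxy : x ≠ y) (h5 : d ∈ QQ z) (h6 : d ∈ QQ a) :
    d = 1 ∨ d = x ∨ d = y ∨ d = x * y := by
  by_contra hn
  simp only [not_or] at hn
  obtain ⟨e, he, rfl⟩ := h.D_of_zero h0 h5 h6 hn.1
  have key : ∀ w ∈ QQ z, w ∈ QQ a → w ≠ 1 → z * cm a e ≠ w → w * e ≠ e * w := fun w w1 w2 w3 w4 c => by
    obtain ⟨f, hf, rfl⟩ := h.D_of_zero h0 w1 w2 w3
    refine w4 (congrArg _ (h.D_pair he hf h6 w2 ?_))
    have c' : Commute (z * cm a f) e := c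
    simpa [h.big.es.z_mul_z_mul] using ((h.big.comm he).mul_left c').symm
  refine key _ (mul_mem h1 h3) (mul_mem h2 h4) (fun k => hxy ?_) hn.2.2.2
    (h.big.es.aes.comm_mul_of_ne h1 h3 he (key x h1 h2 hx hn.2.1) (key y h3 h4 hy hn.2.2.1))
  rwa [mul_eq_one_iff_eq_inv, inv_eq_of_mul_eq_one_right (h.D_sq h3 h4)] at k

/-- Case `ε = 0` and `D` of order four: `B` centralises `U`. -/
theorem B_comm_U [Finite G] (h : Pr z a) (h1 : x ∈ QQ z) (h2 : x ∈ QQ a) (h3 : y ∈ QQ z)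
    (h4 : y ∈ QQ a) (hx : x ≠ 1) (hy : y ≠ 1) (hxy : x ≠ y) (hb : b ∈ QQ a) (hbz : Commute z b)
    (hd : d ∈ h.U) : Commute b d := by
  suffices k : ∀ e ∈ QQ z, Commute b (cm a e) by
    obtain ⟨e, he, rfl | rfl⟩ := hd
    exacts [k e he, hbz.symm.mul_right (k e he)]
  intro e he
  have ce := h.cm_mem he
  have ab : Commute a b := h.symm.big.comm hb
  obtain ⟨m1, m2⟩ := h.comm_mem ce (h.U_comm_of_zero h0 (h.cm_mem_U he)) hb hbz
  by_contra hn
  have n1 : cm a e * cj b (cm a e)⁻¹ ≠ 1 := fun k => hn (by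
    rw [cj_inv, mul_inv_eq_one, eq_comm, cj_eq_self_iff] at k
    exact k)
  obtain ⟨w, w1, w2, w3, w4⟩ : ∃ w ∈ QQ z, w ∈ QQ a ∧ w ≠ 1 ∧ w ≠ cm a e * cj b (cm a e)⁻¹ := by
    by_cases c : x = cm a e * cj b (cm a e)⁻¹
    exacts [⟨y, h3, h4, hy, c ▸ hxy.symm⟩, ⟨x, h1, h2, hx, c⟩]
  obtain ⟨f, hf, rfl⟩ := h.D_of_zero h0 w1 w2 w3
  obtain ⟨g, hg, e1⟩ := h.D_of_zero h0 m1 m2 n1
  refine w4 (e1 ▸ congrArg _ (h.D_pair hf hg w2 (e1 ▸ m2) ?_))
  have bw : Commute (z * cm a f) b := h.symm.D_comm w2 w1 hb hbz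
  have bf' : Commute b (cm a f) := by
    simpa [h.big.es.z_mul_z_mul] using (hbz.mul_left bw).symm
  have k : bf f (cm a e * cj b (cm a e)⁻¹) = 0 := by
    rw [h.big.es.aes.bf_mul_right ce (h.big.cj_mem hbz (inv_mem ce)) hf, cj_inv, bf_inv_right,
      cj_cm ab, h.bf_cm_symm (h.big.cj_mem hbz he) hf, cj_def b e, bf_conj, h.bf_cm_symm he hf,
      show b⁻¹ * cm a f * b = cm a f by rw [mul_assoc, ← bf'.eq, inv_mul_cancel_left]]
    exact CharTwo.add_self_eq_zero _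
  rw [e1] at k
  have k2 : Commute f (z * cm a g) := bf_eq_zero.1 k
  simpa [h.big.es.z_mul_z_mul] using (h.big.comm hf).symm.mul_right k2

end Zero

end Pr

theorem UCo0.pi_cm {π : G → V4} {act : G → V4 → V4} (h : UCo0 z π act) (ha : Commute z a)
    (haa : a * a = 1) (he : e ∈ QQ z) : π (cm a e) = π e + act a (π e) := by
  rw [cm_eq a e haa, h.mul _ he _ (h.big.cj_mem ha (inv_mem he)), h.conj a ha _ (inv_mem he),
    h.inv he]

end Cfsg.Agent.LX
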